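import Cfsg.Agent.H7.Fi23.Fi23T0D

set_option autoImplicit false
set_option maxRecDepth 100000

namespace CfsgH7.Fi23T0

theorem c0 : Nat.beq (nsum2 D.val 0 96 64) 4654 = true := by decide +kernel

theorem c1 : Nat.beq (nsum2 D.val 6144 96 64) 3202 = true := by decide +kernel

theorem c2 : Nat.beq (nsum2 D.val 12288 96 64) 2747 = true := by decide +kernel

theorem c3 : Nat.beq (nsum2 D.val 18432 96 64) 2936 = true := by decide +kernel

theorem c4 : Nat.beq (nsum2 D.val 24576 96 64) 6061 = true := by decide +kernel

theorem c5 : Nat.beq (nsum2 D.val 30720 96 64) 6144 = true := by decide +kernel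

theorem c6 : Nat.beq (nsum2 D.val 36864 96 64) 5927 = true := by decide +kernel


end CfsgH7.Fi23T0
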