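import Cfsg.Agent.H7.TCMain
import Cfsg.Agent.H7.Fi23.Fi23T0D0
import Cfsg.Agent.H7.Fi23.Fi23T0D1

set_option autoImplicit false
set_option maxRecDepth 100000

namespace CfsgH7.Fi23T0

noncomputable def R : RTr := (RTr.node (RTr.node (RTr.node (RTr.node (RTr.node (RTr.node (RTr.node (RTr.node (RTr.node (RTr.leaf ⟨true,25,[],[],0,0,false⟩) (RTr.leaf ⟨false,150,[250,150,250],[],48,0,false⟩)) (RTr.leaf ⟨false,0,[50,100,125,150,100,225,250,100,75,50,100,125,150,100,225,250,100,75,50,100,125,150,100,225,250,100,75,50,100,125,150,100,225,250,100,75,50,100,125,150,100,225,250,100,75,50,100,125,150,100,225,250,100,75,50,100,125,150,100,225,250,100,75,50,100,125,150,100,225,250,100,75,50,100,125,150,100,225,250,100,75,50,100,125,150,100,225,250,100,75],[],55,43,true⟩)) (RTr.node (RTr.leaf ⟨false,125,[225,125,225],[],43,2,false⟩) (RTr.leaf ⟨false,75,[100,125,150,225,25,50,75,100,125,150,225,25,50,75,100,125,150,225,25,50,75,100,125,150,225,25,50,75,100,125,150,225,25,50,75,100,125,150,225,25,50,75,100,125,150,225,25,50,75,100,125,150,225,25,50,75,100,125,150,225,25,50],[],56,4,true⟩)))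 (RTr.node (RTr.node (RTr.leaf ⟨false,200,[150,200,150],[],46,3,false⟩) (RTr.leaf ⟨false,0,[225,75,225,75],[],32,3,true⟩)) (RTr.node (RTr.leaf ⟨false,75,[100,75,100,75,100],[],27,4,false⟩) (RTr.leaf ⟨false,25,[50,25,50,25,50],[],10,2,false⟩)))) (RTr.node (RTr.node (RTr.node (RTr.leaf ⟨false,225,[200,225,200],[],52,3,false⟩) (RTr.leaf ⟨false,125,[25,125,25],[],13,1,false⟩)) (RTr.node (RTr.leaf ⟨false,50,[250,50,250],[],26,2,false⟩) (RTr.leaf ⟨false,75,[225,75,225],[],32,0,false⟩))) (RTr.node (RTr.node (RTr.leaf ⟨false,150,[100,150,100],[],35,3,false⟩) (RTr.leaf ⟨false,100,[25,100,25],[],12,1,false⟩)) (RTr.node (RTr.leaf ⟨false,0,[75,125,75,125],[],28,3,false⟩) (RTr.leaf ⟨false,0,[250,75,250,75],[],33,0,false⟩))))) (RTr.node (RTr.node (RTr.node (RTr.node (RTr.node (RTr.leaf ⟨true,250,[],[],8,0,false⟩) (RTr.leaf ⟨false,150,[100,225,250,100,75,50,100,125,150,100,225,250,100,75,50,100,125,150,100,225,250,100,75,50,100,125,150,100,225,250,100,75,50,100,125,150,100,225,250,100,75,50,100,125,150,100,225,250,100,75,50,100,125,150,100,225,250,100,75,50,100,125,150,100,225,250,100,75,50,100,125,150,100,225,250,100,75,50,100,125,150,100,225,250,100,75,50,100,125],[],55,3,true⟩))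 (RTr.leaf ⟨false,0,[25,125,25,125],[],13,2,true⟩)) (RTr.node (RTr.leaf ⟨false,150,[50,150,50],[],22,3,false⟩) (RTr.leaf ⟨false,0,[75,150,75,150],[],29,3,false⟩))) (RTr.node (RTr.node (RTr.leaf ⟨false,175,[125,175,125],[],41,3,false⟩) (RTr.leaf ⟨false,25,[250,25,250],[],18,0,false⟩)) (RTr.node (RTr.leaf ⟨false,150,[175,150,175,150,175],[],45,4,false⟩) (RTr.leaf ⟨false,200,[250,200,250],[],53,0,false⟩)))) (RTr.node (RTr.node (RTr.node (RTr.leaf ⟨false,225,[175,225,175],[],50,3,false⟩) (RTr.leaf ⟨false,150,[75,150,75],[],29,1,false⟩)) (RTr.node (RTr.leaf ⟨false,75,[25,75,25],[],11,3,false⟩) (RTr.leaf ⟨false,225,[75,225,75],[],32,1,false⟩))) (RTr.node (RTr.node (RTr.leaf ⟨false,150,[75,150,75],[],29,3,false⟩) (RTr.leaf ⟨false,25,[50,75,100,125,150,225,25,50,75,100,125,150,225,25,50,75,100,125,150,225,25,50,75,100,125,150,225,25,50,75,100,125,150,225,25,50,75,100,125,150,225,25,50,75,100,125,150,225,25,50,75,100,125,150,225,25,50,75,100,125,150,225],[],56,48,true⟩))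 (RTr.node (RTr.leaf ⟨false,125,[50,125,50],[],21,1,false⟩) (RTr.leaf ⟨false,250,[225,250,225,250,225],[],54,1,false⟩)))))) (RTr.node (RTr.node (RTr.node (RTr.node (RTr.node (RTr.node (RTr.leaf ⟨true,125,[],[],4,0,false⟩) (RTr.leaf ⟨false,250,[125,250,125],[],44,1,false⟩)) (RTr.leaf ⟨false,25,[100,25,100],[],12,0,false⟩)) (RTr.node (RTr.leaf ⟨false,100,[225,100,225,100,225],[],38,4,false⟩) (RTr.leaf ⟨false,0,[125,225,125,225],[],43,2,true⟩))) (RTr.node (RTr.node (RTr.leaf ⟨false,125,[125],[],4,0,false⟩) (RTr.leaf ⟨false,0,[200,75,200,75],[],31,3,true⟩)) (RTr.node (RTr.leaf ⟨false,225,[75,225,75],[],32,3,false⟩) (RTr.leaf ⟨false,50,[175,50,175],[],23,0,false⟩)))) (RTr.node (RTr.node (RTr.node (RTr.leaf ⟨false,50,[175,50,175],[],23,2,false⟩) (RTr.leaf ⟨false,150,[175,150,175,150,175],[],45,2,false⟩)) (RTr.node (RTr.leaf ⟨false,175,[250,175,250],[],51,2,false⟩) (RTr.leaf ⟨false,225,[100,225,100,225,100],[],38,1,false⟩))) (RTr.node (RTr.node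 (RTr.leaf ⟨false,125,[100,125,100,125,100],[],34,5,false⟩) (RTr.leaf ⟨false,225,[125,225,125],[],43,1,false⟩)) (RTr.node (RTr.leaf ⟨false,225,[100,225,100,225,100],[],38,3,false⟩) (RTr.leaf ⟨false,0,[50,250,50,250],[],26,3,false⟩))))) (RTr.node (RTr.node (RTr.node (RTr.node (RTr.node (RTr.leaf ⟨false,75,[200,75,200],[],31,2,false⟩) (RTr.leaf ⟨false,175,[150,175,150,175,150],[],45,1,false⟩)) (RTr.leaf ⟨false,125,[175,125,175],[],41,0,false⟩)) (RTr.node (RTr.leaf ⟨false,75,[50,75,50,75,50],[],19,5,false⟩) (RTr.leaf ⟨false,150,[125,150,125,150,125],[],40,1,false⟩))) (RTr.node (RTr.node (RTr.leaf ⟨false,150,[125,150,125,150,125],[],40,5,false⟩) (RTr.leaf ⟨false,25,[125,25,125],[],13,0,false⟩)) (RTr.node (RTr.leaf ⟨false,225,[25,225,25],[],17,3,false⟩) (RTr.leaf ⟨false,0,[225,125,225,125],[],43,0,false⟩)))) (RTr.node (RTr.node (RTr.node (RTr.leaf ⟨false,25,[150,25,150],[],14,2,false⟩) (RTr.leaf ⟨false,100,[175,100,175],[],36,0,false⟩))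 (RTr.node (RTr.leaf ⟨false,175,[25,175,25],[],15,3,false⟩) (RTr.leaf ⟨false,225,[25,225,25],[],17,1,false⟩))) (RTr.node (RTr.node (RTr.leaf ⟨false,100,[75,100,75,100,75],[],27,5,false⟩) (RTr.leaf ⟨false,25,[50,75,100,125,150,225,25,50,75,100,125,150,225,25,50,75,100,125,150,225,25,50,75,100,125,150,225,25,50,75,100,125,150,225,25,50,75,100,125,150,225,25,50,75,100,125,150,225,25,50,75,100,125,150,225,25,50,75,100,125,150,225],[],56,62,true⟩)) (RTr.node (RTr.leaf ⟨false,50,[75,50,75,50,75],[],19,2,false⟩) (RTr.leaf ⟨false,100,[75,50,25,225,150,125,100,75,50,25,225,150,125,100,75,50,25,225,150,125,100,75,50,25,225,150,125,100,75,50,25,225,150,125,100,75,50,25,225,150,125,100,75,50,25,225,150,125,100,75,50,25,225,150,125,100,75,50,25,225,150,125],[],56,3,false⟩))))))) (RTr.node (RTr.node (RTr.node (RTr.node (RTr.node (RTr.node (RTr.node (RTr.leaf ⟨true,75,[],[],2,0,false⟩) (RTr.leaf ⟨false,125,[150,125,150,125,150],[],40,0,false⟩))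 (RTr.leaf ⟨false,0,[125,225,125,225],[],43,3,false⟩)) (RTr.node (RTr.leaf ⟨false,175,[225,175,225],[],50,2,false⟩) (RTr.leaf ⟨false,0,[100,175,100,175],[],36,3,false⟩))) (RTr.node (RTr.node (RTr.leaf ⟨false,250,[150,250,150],[],48,3,false⟩) (RTr.leaf ⟨false,250,[175,250,175],[],51,1,false⟩)) (RTr.node (RTr.leaf ⟨false,75,[250,75,250],[],33,2,false⟩) (RTr.leaf ⟨false,100,[75,50,100,125,150,100,225,250,100,75,50,100,125,150,100,225,250,100,75,50,100,125,150,100,225,250,100,75,50,100,125,150,100,225,250,100,75,50,100,125,150,100,225,250,100,75,50,100,125,150,100,225,250,100,75,50,100,125,150,100,225,250,100,75,50,100,125,150,100,225,250,100,75,50,100,125,150,100,225,250,100,75,50,100,125,150,100,225,250],[],55,80,true⟩)))) (RTr.node (RTr.node (RTr.node (RTr.leaf ⟨false,175,[175],[],6,0,false⟩) (RTr.leaf ⟨false,150,[200,150,200],[],46,0,false⟩)) (RTr.node (RTr.leaf ⟨false,125,[250,125,250],[],44,2,false⟩) (RTr.leaf ⟨false,50,[75,50,75,50,75],[],19,0,false⟩)))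 (RTr.node (RTr.node (RTr.leaf ⟨false,200,[100,200,100],[],37,3,false⟩) (RTr.leaf ⟨false,175,[25,175,25],[],15,1,false⟩)) (RTr.node (RTr.leaf ⟨false,75,[50,75,50,75,50],[],19,3,false⟩) (RTr.leaf ⟨false,0,[100,50,100,50],[],20,0,false⟩))))) (RTr.node (RTr.node (RTr.node (RTr.node (RTr.node (RTr.leaf ⟨false,25,[200,25,200],[],16,2,false⟩) (RTr.leaf ⟨false,75,[50,100,125,150,100,225,250,100,75,50,100,125,150,100,225,250,100,75,50,100,125,150,100,225,250,100,75,50,100,125,150,100,225,250,100,75,50,100,125,150,100,225,250,100,75,50,100,125,150,100,225,250,100,75,50,100,125,150,100,225,250,100,75,50,100,125,150,100,225,250,100,75,50,100,125,150,100,225,250,100,75,50,100,125,150,100,225,250,100],[],55,88,true⟩)) (RTr.leaf ⟨false,250,[200,250,200],[],53,1,false⟩)) (RTr.node (RTr.leaf ⟨false,200,[50,200,50],[],24,3,false⟩) (RTr.leaf ⟨false,100,[125,150,225,25,50,75,100,125,150,225,25,50,75,100,125,150,225,25,50,75,100,125,150,225,25,50,75,100,125,150,225,25,50,75,100,125,150,225,25,50,75,100,125,150,225,25,50,75,100,125,150,225,25,50,75,100,125,150,225,25,50,75],[],56,59,true⟩)))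 (RTr.node (RTr.node (RTr.leaf ⟨false,225,[125,225,125],[],43,3,false⟩) (RTr.leaf ⟨false,50,[200,50,200],[],24,0,false⟩)) (RTr.node (RTr.leaf ⟨false,25,[50,25,50,25,50],[],10,4,false⟩) (RTr.leaf ⟨false,0,[100,25,100,25],[],12,0,false⟩)))) (RTr.node (RTr.node (RTr.node (RTr.leaf ⟨false,200,[175,200,175,200,175],[],49,5,false⟩) (RTr.leaf ⟨false,100,[150,100,150],[],35,0,false⟩)) (RTr.node (RTr.leaf ⟨false,125,[25,125,25],[],13,3,false⟩) (RTr.leaf ⟨false,75,[250,75,250],[],33,0,false⟩))) (RTr.node (RTr.node (RTr.leaf ⟨false,200,[75,200,75],[],31,3,false⟩) (RTr.leaf ⟨false,75,[50,75,50,75,50],[],19,1,false⟩)) (RTr.node (RTr.leaf ⟨false,0,[125,75,125,75],[],28,2,false⟩) (RTr.leaf ⟨false,125,[150,225,25,50,75,100,125,150,225,25,50,75,100,125,150,225,25,50,75,100,125,150,225,25,50,75,100,125,150,225,25,50,75,100,125,150,225,25,50,75,100,125,150,225,25,50,75,100,125,150,225,25,50,75,100,125,150,225,25,50,75,100],[],56,2,true⟩)))))) (RTr.node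 (RTr.node (RTr.node (RTr.node (RTr.node (RTr.node (RTr.leaf ⟨true,175,[],[],6,0,false⟩) (RTr.leaf ⟨false,100,[75,50,100,125,150,100,225,250,100,75,50,100,125,150,100,225,250,100,75,50,100,125,150,100,225,250,100,75,50,100,125,150,100,225,250,100,75,50,100,125,150,100,225,250,100,75,50,100,125,150,100,225,250,100,75,50,100,125,150,100,225,250,100,75,50,100,125,150,100,225,250,100,75,50,100,125,150,100,225,250,100,75,50,100,125,150,100,225,250],[],55,89,true⟩)) (RTr.leaf ⟨false,0,[100,75,50,100,125,150,100,225,250,100,75,50,100,125,150,100,225,250,100,75,50,100,125,150,100,225,250,100,75,50,100,125,150,100,225,250,100,75,50,100,125,150,100,225,250,100,75,50,100,125,150,100,225,250,100,75,50,100,125,150,100,225,250,100,75,50,100,125,150,100,225,250,100,75,50,100,125,150,100,225,250,100,75,50,100,125,150,100,225,250],[],55,0,true⟩)) (RTr.node (RTr.leaf ⟨false,100,[50,100,50],[],20,3,false⟩) (RTr.leaf ⟨false,0,[100,150,100,150],[],35,3,false⟩)))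 (RTr.node (RTr.node (RTr.leaf ⟨false,50,[125,50,125],[],21,2,false⟩) (RTr.leaf ⟨false,175,[200,175,200,175,200],[],49,2,false⟩)) (RTr.node (RTr.leaf ⟨false,125,[150,125,150,125,150],[],40,4,false⟩) (RTr.leaf ⟨false,25,[50,25,50,25,50],[],10,0,false⟩)))) (RTr.node (RTr.node (RTr.node (RTr.leaf ⟨false,100,[175,100,175],[],36,2,false⟩) (RTr.leaf ⟨false,200,[150,200,150],[],46,1,false⟩)) (RTr.node (RTr.leaf ⟨false,225,[250,225,250,225,250],[],54,4,false⟩) (RTr.leaf ⟨false,225,[175,225,175],[],50,1,false⟩))) (RTr.node (RTr.node (RTr.leaf ⟨false,25,[75,25,75],[],11,2,false⟩) (RTr.leaf ⟨false,150,[225,150,225],[],47,0,false⟩)) (RTr.node (RTr.leaf ⟨false,225,[50,225,50],[],25,1,false⟩) (RTr.leaf ⟨false,0,[50,125,50,125],[],21,3,false⟩))))) (RTr.node (RTr.node (RTr.node (RTr.node (RTr.leaf ⟨false,125,[200,125,200],[],42,2,false⟩) (RTr.leaf ⟨false,200,[125,200,125],[],42,1,false⟩)) (RTr.node (RTr.leaf ⟨false,250,[250],[],9,0,false⟩) (RTr.leaf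 ⟨false,250,[75,250,75],[],33,1,false⟩))) (RTr.node (RTr.node (RTr.leaf ⟨false,25,[100,25,100],[],12,2,false⟩) (RTr.leaf ⟨false,75,[25,75,25],[],11,1,false⟩)) (RTr.node (RTr.leaf ⟨false,125,[100,50,75,100,250,225,100,150,125,100,50,75,100,250,225,100,150,125,100,50,75,100,250,225,100,150,125,100,50,75,100,250,225,100,150,125,100,50,75,100,250,225,100,150,125,100,50,75,100,250,225,100,150,125,100,50,75,100,250,225,100,150,125,100,50,75,100,250,225,100,150,125,100,50,75,100,250,225,100,150,125,100,50,75,100,250,225,100,150],[],55,4,false⟩) (RTr.leaf ⟨false,0,[175,50,175,50],[],23,0,false⟩)))) (RTr.node (RTr.node (RTr.node (RTr.leaf ⟨false,75,[150,75,150],[],29,2,false⟩) (RTr.leaf ⟨false,150,[100,150,100],[],35,1,false⟩)) (RTr.node (RTr.leaf ⟨false,250,[25,250,25],[],18,3,false⟩) (RTr.leaf ⟨false,0,[50,100,50,100],[],20,3,false⟩))) (RTr.node (RTr.node (RTr.leaf ⟨false,25,[225,25,225],[],17,2,false⟩) (RTr.leaf ⟨false,200,[175,200,175,200,175],[],49,3,false⟩))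 (RTr.node (RTr.leaf ⟨false,75,[150,75,150],[],29,0,false⟩) (RTr.leaf ⟨false,75,[50,25,225,150,125,100,75,50,25,225,150,125,100,75,50,25,225,150,125,100,75,50,25,225,150,125,100,75,50,25,225,150,125,100,75,50,25,225,150,125,100,75,50,25,225,150,125,100,75,50,25,225,150,125,100,75,50,25,225,150,125,100],[],56,2,false⟩)))))))) (RTr.node (RTr.node (RTr.node (RTr.node (RTr.node (RTr.node (RTr.node (RTr.node (RTr.leaf ⟨true,50,[],[],1,0,false⟩) (RTr.leaf ⟨false,125,[250,125,250],[],44,0,false⟩)) (RTr.leaf ⟨false,0,[100,125,100,125,100,125],[],34,3,false⟩)) (RTr.node (RTr.leaf ⟨false,150,[225,150,225],[],47,2,false⟩) (RTr.leaf ⟨false,100,[125,100,125,100,125],[],34,0,false⟩))) (RTr.node (RTr.node (RTr.leaf ⟨false,225,[150,225,150],[],47,3,false⟩) (RTr.leaf ⟨false,175,[225,175,225],[],50,0,false⟩)) (RTr.node (RTr.leaf ⟨false,225,[100,225,100,225,100],[],38,5,false⟩) (RTr.leaf ⟨false,100,[50,75,100,250,225,100,150,125,100,50,75,100,250,225,100,150,125,100,50,75,100,250,225,100,150,125,100,50,75,100,250,225,100,150,125,100,50,75,100,250,225,100,150,125,100,50,75,100,250,225,100,150,125,100,50,75,100,250,225,100,150,125,100,50,75,100,250,225,100,150,125,100,50,75,100,250,225,100,150,125,100,50,75,100,250,225,100,150,125],[],55,75,false⟩))))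 (RTr.node (RTr.node (RTr.node (RTr.leaf ⟨false,250,[200,250,200],[],53,3,false⟩) (RTr.leaf ⟨false,100,[200,100,200],[],37,0,false⟩)) (RTr.node (RTr.leaf ⟨false,100,[250,100,250],[],39,2,false⟩) (RTr.leaf ⟨false,175,[75,175,75],[],30,1,false⟩))) (RTr.node (RTr.node (RTr.leaf ⟨false,175,[100,175,100],[],36,3,false⟩) (RTr.leaf ⟨false,175,[125,175,125],[],41,1,false⟩)) (RTr.node (RTr.leaf ⟨false,50,[25,50,25,50,25],[],10,3,false⟩) (RTr.leaf ⟨false,0,[150,25,150,25],[],14,0,false⟩))))) (RTr.node (RTr.node (RTr.node (RTr.node (RTr.node (RTr.leaf ⟨false,200,[200],[],7,0,false⟩) (RTr.leaf ⟨false,50,[100,125,150,100,225,250,100,75,50,100,125,150,100,225,250,100,75,50,100,125,150,100,225,250,100,75,50,100,125,150,100,225,250,100,75,50,100,125,150,100,225,250,100,75,50,100,125,150,100,225,250,100,75,50,100,125,150,100,225,250,100,75,50,100,125,150,100,225,250,100,75,50,100,125,150,100,225,250,100,75,50,100,125,150,100,225,250,100,75],[],55,6,true⟩))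 (RTr.leaf ⟨false,0,[175,100,175,100],[],36,0,false⟩)) (RTr.node (RTr.leaf ⟨false,175,[50,175,50],[],23,3,false⟩) (RTr.leaf ⟨false,0,[250,200,250,200],[],53,2,false⟩))) (RTr.node (RTr.node (RTr.leaf ⟨false,200,[125,200,125],[],42,3,false⟩) (RTr.leaf ⟨false,200,[25,200,25],[],16,1,false⟩)) (RTr.node (RTr.leaf ⟨false,225,[50,225,50],[],25,3,false⟩) (RTr.leaf ⟨false,0,[75,25,75,25],[],11,0,false⟩)))) (RTr.node (RTr.node (RTr.node (RTr.leaf ⟨false,250,[175,250,175],[],51,3,false⟩) (RTr.leaf ⟨false,25,[150,25,150],[],14,0,false⟩)) (RTr.node (RTr.leaf ⟨false,100,[25,100,25],[],12,3,false⟩) (RTr.leaf ⟨false,250,[150,250,150],[],48,1,false⟩))) (RTr.node (RTr.node (RTr.leaf ⟨false,175,[75,175,75],[],30,3,false⟩) (RTr.leaf ⟨false,25,[75,25,75],[],11,0,false⟩)) (RTr.node (RTr.leaf ⟨false,75,[100,75,100,75,100],[],27,2,false⟩) (RTr.leaf ⟨false,100,[250,100,250],[],39,0,false⟩)))))) (RTr.node (RTr.node (RTr.node (RTr.node (RTr.node (RTr.node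 (RTr.leaf ⟨true,150,[],[],5,0,false⟩) (RTr.leaf ⟨false,225,[100,150,125,100,50,75,100,250,225,100,150,125,100,50,75,100,250,225,100,150,125,100,50,75,100,250,225,100,150,125,100,50,75,100,250,225,100,150,125,100,50,75,100,250,225,100,150,125,100,50,75,100,250,225,100,150,125,100,50,75,100,250,225,100,150,125,100,50,75,100,250,225,100,150,125,100,50,75,100,250,225,100,150,125,100,50,75,100,250],[],55,88,false⟩)) (RTr.leaf ⟨false,0,[75,50,25,225,150,125,100,75,50,25,225,150,125,100,75,50,25,225,150,125,100,75,50,25,225,150,125,100,75,50,25,225,150,125,100,75,50,25,225,150,125,100,75,50,25,225,150,125,100,75,50,25,225,150,125,100,75,50,25,225,150,125,100],[],56,24,false⟩)) (RTr.node (RTr.leaf ⟨false,50,[50],[],1,0,false⟩) (RTr.leaf ⟨false,0,[125,175,125,175],[],41,3,false⟩))) (RTr.node (RTr.node (RTr.leaf ⟨false,25,[125,25,125],[],13,2,false⟩) (RTr.leaf ⟨false,225,[200,225,200],[],52,1,false⟩)) (RTr.node (RTr.leaf ⟨false,50,[75,50,75,50,75],[],19,4,false⟩)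 (RTr.leaf ⟨false,200,[50,200,50],[],24,1,false⟩)))) (RTr.node (RTr.node (RTr.node (RTr.leaf ⟨false,75,[175,75,175],[],30,2,false⟩) (RTr.leaf ⟨false,50,[150,50,150],[],22,0,false⟩)) (RTr.node (RTr.leaf ⟨false,200,[250,200,250],[],53,2,false⟩) (RTr.leaf ⟨false,200,[225,200,225],[],52,0,false⟩))) (RTr.node (RTr.node (RTr.leaf ⟨false,75,[75],[],2,0,false⟩) (RTr.leaf ⟨false,25,[225,25,225],[],17,0,false⟩)) (RTr.node (RTr.leaf ⟨false,100,[50,100,50],[],20,1,false⟩) (RTr.leaf ⟨false,0,[175,25,175,25],[],15,0,false⟩))))) (RTr.node (RTr.node (RTr.node (RTr.node (RTr.node (RTr.leaf ⟨false,100,[200,100,200],[],37,2,false⟩) (RTr.leaf ⟨false,250,[100,75,50,100,125,150,100,225,250,100,75,50,100,125,150,100,225,250,100,75,50,100,125,150,100,225,250,100,75,50,100,125,150,100,225,250,100,75,50,100,125,150,100,225,250,100,75,50,100,125,150,100,225,250,100,75,50,100,125,150,100,225,250,100,75,50,100,125,150,100,225,250,100,75,50,100,125,150,100,225,250,100,75,50,100,125,150,100,225],[],55,0,true⟩))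 (RTr.leaf ⟨false,50,[125,50,125],[],21,0,false⟩)) (RTr.node (RTr.leaf ⟨false,75,[225,75,225],[],32,2,false⟩) (RTr.leaf ⟨false,50,[100,50,100],[],20,0,false⟩))) (RTr.node (RTr.node (RTr.leaf ⟨false,100,[100],[],3,0,false⟩) (RTr.leaf ⟨false,75,[125,75,125],[],28,0,false⟩)) (RTr.node (RTr.leaf ⟨false,225,[150,125,100,75,50,25,225,150,125,100,75,50,25,225,150,125,100,75,50,25,225,150,125,100,75,50,25,225,150,125,100,75,50,25,225,150,125,100,75,50,25,225,150,125,100,75,50,25,225,150,125,100,75,50,25,225,150,125,100,75,50,25],[],56,62,false⟩) (RTr.leaf ⟨false,0,[175,75,175,75],[],30,0,false⟩)))) (RTr.node (RTr.node (RTr.node (RTr.leaf ⟨false,50,[150,50,150],[],22,2,false⟩) (RTr.leaf ⟨false,150,[175,150,175,150,175],[],45,0,false⟩)) (RTr.node (RTr.leaf ⟨false,200,[25,200,25],[],16,3,false⟩) (RTr.leaf ⟨false,0,[200,100,200,100],[],37,2,false⟩))) (RTr.node (RTr.node (RTr.leaf ⟨false,225,[225],[],8,0,false⟩) (RTr.leaf ⟨false,175,[100,175,100],[],36,1,false⟩))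 (RTr.node (RTr.leaf ⟨false,150,[50,150,50],[],22,1,false⟩) (RTr.leaf ⟨false,150,[225,25,50,75,100,125,150,225,25,50,75,100,125,150,225,25,50,75,100,125,150,225,25,50,75,100,125,150,225,25,50,75,100,125,150,225,25,50,75,100,125,150,225,25,50,75,100,125,150,225,25,50,75,100,125,150,225,25,50,75,100,125],[],56,1,true⟩))))))) (RTr.node (RTr.node (RTr.node (RTr.node (RTr.node (RTr.node (RTr.node (RTr.leaf ⟨true,100,[],[],3,0,false⟩) (RTr.leaf ⟨false,100,[150,125,100,50,75,100,250,225,100,150,125,100,50,75,100,250,225,100,150,125,100,50,75,100,250,225,100,150,125,100,50,75,100,250,225,100,150,125,100,50,75,100,250,225,100,150,125,100,50,75,100,250,225,100,150,125,100,50,75,100,250,225,100,150,125,100,50,75,100,250,225,100,150,125,100,50,75,100,250,225,100,150,125,100,50,75,100,250,225],[],55,6,false⟩)) (RTr.leaf ⟨false,100,[125,150,100,225,250,100,75,50,100,125,150,100,225,250,100,75,50,100,125,150,100,225,250,100,75,50,100,125,150,100,225,250,100,75,50,100,125,150,100,225,250,100,75,50,100,125,150,100,225,250,100,75,50,100,125,150,100,225,250,100,75,50,100,125,150,100,225,250,100,75,50,100,125,150,100,225,250,100,75,50,100,125,150,100,225,250,100,75,50],[],55,86,true⟩))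 (RTr.node (RTr.leaf ⟨false,200,[225,200,225],[],52,2,false⟩) (RTr.leaf ⟨false,0,[150,200,150,200],[],46,2,true⟩))) (RTr.node (RTr.node (RTr.leaf ⟨false,175,[150,175,150,175,150],[],45,5,false⟩) (RTr.leaf ⟨false,200,[175,200,175,200,175],[],49,1,false⟩)) (RTr.node (RTr.leaf ⟨false,100,[125,100,125,100,125],[],34,4,false⟩) (RTr.leaf ⟨false,0,[75,25,75,25],[],11,2,false⟩)))) (RTr.node (RTr.node (RTr.node (RTr.leaf ⟨false,25,[175,25,175],[],15,2,false⟩) (RTr.leaf ⟨false,75,[175,75,175],[],30,0,false⟩)) (RTr.node (RTr.leaf ⟨false,150,[250,150,250],[],48,2,false⟩) (RTr.leaf ⟨false,100,[75,100,75,100,75],[],27,1,false⟩))) (RTr.node (RTr.node (RTr.leaf ⟨false,250,[100,250,100],[],39,3,false⟩) (RTr.leaf ⟨false,125,[100,125,100,125,100],[],34,1,false⟩)) (RTr.node (RTr.leaf ⟨false,125,[100,125,100,125,100],[],34,3,false⟩) (RTr.leaf ⟨false,0,[225,50,225,50],[],25,0,false⟩))))) (RTr.node (RTr.node (RTr.node (RTr.node (RTr.node (RTr.leaf ⟨false,50,[200,50,200],[],24,2,false⟩)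 (RTr.leaf ⟨false,225,[25,50,75,100,125,150,225,25,50,75,100,125,150,225,25,50,75,100,125,150,225,25,50,75,100,125,150,225,25,50,75,100,125,150,225,25,50,75,100,125,150,225,25,50,75,100,125,150,225,25,50,75,100,125,150,225,25,50,75,100,125,150],[],56,0,true⟩)) (RTr.leaf ⟨false,25,[175,25,175],[],15,0,false⟩)) (RTr.node (RTr.leaf ⟨false,250,[50,250,50],[],26,3,false⟩) (RTr.leaf ⟨false,250,[25,250,25],[],18,1,false⟩))) (RTr.node (RTr.node (RTr.leaf ⟨false,250,[125,250,125],[],44,3,false⟩) (RTr.leaf ⟨false,175,[50,175,50],[],23,1,false⟩)) (RTr.node (RTr.leaf ⟨false,175,[200,175,200,175,200],[],49,4,false⟩) (RTr.leaf ⟨false,0,[125,25,125,25],[],13,0,false⟩)))) (RTr.node (RTr.node (RTr.node (RTr.leaf ⟨false,150,[150],[],5,0,false⟩) (RTr.leaf ⟨false,175,[200,175,200,175,200],[],49,0,false⟩)) (RTr.node (RTr.leaf ⟨false,150,[25,150,25],[],14,3,false⟩) (RTr.leaf ⟨false,0,[150,225,150,225],[],47,2,true⟩))) (RTr.node (RTr.node (RTr.leaf ⟨false,250,[75,250,75],[],33,3,false⟩)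 (RTr.leaf ⟨false,225,[25,50,75,100,125,150,225,25,50,75,100,125,150,225,25,50,75,100,125,150,225,25,50,75,100,125,150,225,25,50,75,100,125,150,225,25,50,75,100,125,150,225,25,50,75,100,125,150,225,25,50,75,100,125,150,225,25,50,75,100,125,150],[],56,14,true⟩)) (RTr.node (RTr.leaf ⟨false,0,[150,50,150,50],[],22,2,false⟩) (RTr.leaf ⟨false,125,[100,75,50,25,225,150,125,100,75,50,25,225,150,125,100,75,50,25,225,150,125,100,75,50,25,225,150,125,100,75,50,25,225,150,125,100,75,50,25,225,150,125,100,75,50,25,225,150,125,100,75,50,25,225,150,125,100,75,50,25,225,150],[],56,4,false⟩)))))) (RTr.node (RTr.node (RTr.node (RTr.node (RTr.node (RTr.node (RTr.leaf ⟨true,225,[],[],7,0,false⟩) (RTr.leaf ⟨false,50,[25,225,150,125,100,75,50,25,225,150,125,100,75,50,25,225,150,125,100,75,50,25,225,150,125,100,75,50,25,225,150,125,100,75,50,25,225,150,125,100,75,50,25,225,150,125,100,75,50,25,225,150,125,100,75,50,25,225,150,125,100,75],[],56,1,false⟩))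 (RTr.leaf ⟨false,75,[50,25,225,150,125,100,75,50,25,225,150,125,100,75,50,25,225,150,125,100,75,50,25,225,150,125,100,75,50,25,225,150,125,100,75,50,25,225,150,125,100,75,50,25,225,150,125,100,75,50,25,225,150,125,100,75,50,25,225,150,125,100],[],56,58,false⟩)) (RTr.node (RTr.leaf ⟨false,125,[50,125,50],[],21,3,false⟩) (RTr.leaf ⟨false,0,[100,75,100,75,100,75],[],27,2,false⟩))) (RTr.node (RTr.node (RTr.leaf ⟨false,75,[125,75,125],[],28,2,false⟩) (RTr.leaf ⟨false,200,[75,200,75],[],31,1,false⟩)) (RTr.node (RTr.leaf ⟨false,250,[225,250,225,250,225],[],54,5,false⟩) (RTr.leaf ⟨false,175,[250,175,250],[],51,0,false⟩)))) (RTr.node (RTr.node (RTr.node (RTr.leaf ⟨false,125,[175,125,175],[],41,2,false⟩) (RTr.leaf ⟨false,75,[200,75,200],[],31,0,false⟩)) (RTr.node (RTr.leaf ⟨false,25,[25],[],0,0,false⟩) (RTr.leaf ⟨false,50,[225,50,225],[],25,0,false⟩))) (RTr.node (RTr.node (RTr.leaf ⟨false,125,[75,125,75],[],28,3,false⟩) (RTr.leaf ⟨false,100,[225,100,225,100,225],[],38,0,false⟩))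 (RTr.node (RTr.leaf ⟨false,250,[100,250,100],[],39,1,false⟩) (RTr.leaf ⟨false,125,[225,125,225],[],43,0,false⟩))))) (RTr.node (RTr.node (RTr.node (RTr.node (RTr.leaf ⟨false,150,[200,150,200],[],46,2,false⟩) (RTr.leaf ⟨false,25,[200,25,200],[],16,0,false⟩)) (RTr.node (RTr.leaf ⟨false,25,[250,25,250],[],18,2,false⟩) (RTr.leaf ⟨false,0,[150,75,150,75],[],29,1,true⟩))) (RTr.node (RTr.node (RTr.leaf ⟨false,50,[100,50,100],[],20,2,false⟩) (RTr.leaf ⟨false,125,[200,125,200],[],42,0,false⟩)) (RTr.node (RTr.leaf ⟨false,0,[100,125,100,125,100,125],[],34,1,false⟩) (RTr.leaf ⟨false,0,[25,75,25,75],[],11,3,false⟩)))) (RTr.node (RTr.node (RTr.node (RTr.leaf ⟨false,100,[150,100,150],[],35,2,false⟩) (RTr.leaf ⟨false,225,[150,225,150],[],47,1,false⟩)) (RTr.node (RTr.leaf ⟨false,50,[25,50,25,50,25],[],10,5,false⟩) (RTr.leaf ⟨false,50,[25,50,25,50,25],[],10,1,false⟩))) (RTr.node (RTr.node (RTr.leaf ⟨false,50,[225,50,225],[],25,2,false⟩) (RTr.leaf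 ⟨false,200,[100,200,100],[],37,1,false⟩)) (RTr.node (RTr.leaf ⟨false,125,[75,125,75],[],28,1,false⟩) (RTr.leaf ⟨false,25,[225,150,125,100,75,50,25,225,150,125,100,75,50,25,225,150,125,100,75,50,25,225,150,125,100,75,50,25,225,150,125,100,75,50,25,225,150,125,100,75,50,25,225,150,125,100,75,50,25,225,150,125,100,75,50,25,225,150,125,100,75,50],[],56,0,false⟩)))))))))

noncomputable def D : TCD where
  N := nat_lit 42791
  E := (Tr.node (Tr.node (Tr.node (Tr.node e0 e8) (Tr.node e4 e12)) (Tr.node (Tr.node e2 e10) (Tr.node e6 e14))) (Tr.node (Tr.node (Tr.node e1 e9) (Tr.node e5 e13)) (Tr.node (Tr.node e3 e11) (Tr.node e7 e15))))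
  lb := nat_lit 4
  lm := nat_lit 15
  rw := nat_lit 275
  em := nat_lit 33554431
  vm := nat_lit 131071
  fl := nat_lit 65536
  wv := nat_lit 17
  inf := nat_lit 33423360
  J := (Tr.node (Tr.node (Tr.node (Tr.node j0 j8) (Tr.node j4 j12)) (Tr.node (Tr.node j2 j10) (Tr.node j6 j14))) (Tr.node (Tr.node (Tr.node j1 j9) (Tr.node j5 j13)) (Tr.node (Tr.node j3 j11) (Tr.node j7 j15))))
  jw := nat_lit 24
  jm := nat_lit 16777215
  jr := nat_lit 288
  pk := nat_lit 275
  nr := nat_lit 270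
  R := R
  cols := [(nat_lit 25,nat_lit 48),(nat_lit 50,nat_lit 72),(nat_lit 75,nat_lit 96),(nat_lit 100,nat_lit 120),(nat_lit 125,nat_lit 144),(nat_lit 150,nat_lit 168),(nat_lit 175,nat_lit 192),(nat_lit 200,nat_lit 216),(nat_lit 225,nat_lit 240),(nat_lit 250,nat_lit 264)]
  j0 := nat_lit 24
  big := nat_lit 1000000000

def cl : List (Nat × Nat) := [(25,0),(50,2),(75,4),(100,6),(125,8),(150,10),(175,12),(200,14),(225,16),(250,18)]
def invs : List Nat := [0,1,2,3,4,5,6,7,8,9]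
def rels : List (List Nat) := [[0,1],[2,3],[4,5],[6,7],[8,9],[10,11],[12,13],[14,15],[16,17],[18,19],[0,2,0,2,0,2],[0,4,0,4],[0,6,0,6],[0,8,0,8],[0,10,0,10],[0,12,0,12],[0,14,0,14],[0,16,0,16],[0,18,0,18],[2,4,2,4,2,4],[2,6,2,6],[2,8,2,8],[2,10,2,10],[2,12,2,12],[2,14,2,14],[2,16,2,16],[2,18,2,18],[4,6,4,6,4,6],[4,8,4,8],[4,10,4,10],[4,12,4,12],[4,14,4,14],[4,16,4,16],[4,18,4,18],[6,8,6,8,6,8],[6,10,6,10],[6,12,6,12],[6,14,6,14],[6,16,6,16,6,16],[6,18,6,18],[8,10,8,10,8,10],[8,12,8,12],[8,14,8,14],[8,16,8,16],[8,18,8,18],[10,12,10,12,10,12],[10,14,10,14],[10,16,10,16],[10,18,10,18],[12,14,12,14,12,14],[12,16,12,16],[12,18,12,18],[14,16,14,16],[14,18,14,18],[16,18,16,18,16,18],[6,4,2,6,8,10,6,16,18,6,4,2,6,8,10,6,16,18,6,4,2,6,8,10,6,16,18,6,4,2,6,8,10,6,16,18,6,4,2,6,8,10,6,16,18,6,4,2,6,8,10,6,16,18,6,4,2,6,8,10,6,16,18,6,4,2,6,8,10,6,16,18,6,4,2,6,8,10,6,16,18,6,4,2,6,8,10,6,16,18],[0,2,4,6,8,10,16,0,2,4,6,8,10,16,0,2,4,6,8,10,16,0,2,4,6,8,10,16,0,2,4,6,8,10,16,0,2,4,6,8,10,16,0,2,4,6,8,10,16,0,2,4,6,8,10,16,0,2,4,6,8,10,16]]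
def subs : List (List Nat) := [[0],[2],[4],[6],[8],[10],[12],[16],[18]]
def W0 : List (List Nat) := [[0],[2],[4],[6],[8],[10],[12],[14],[16],[18]]


end CfsgH7.Fi23T0
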