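import Cfsg.Agent.H7.Fi23.Rel
import Cfsg.Agent.H7.Fi23.Chk
import Cfsg.Agent.H7.Fi23.TC
import Cfsg.Prelude.Def_Spor_Fi23
import Cfsg.Agent.H7.Pt

set_option autoImplicit false
set_option maxRecDepth 100000

namespace CfsgH7.Fi23

open MulAction

theorem card_rel9 {G : Type*} [Group G] (g : Nat → G) (h : Sat g RS) :
    (genW g Fi23T9.subs).relIndex (genW g Fi23T9.W0) ≠ 0 ∧ (genW g Fi23T9.subs).relIndex (genW g Fi23T9.W0) ≤ 2 :=
  have hf := h.follows (invs := Fi23T9.invs) (rels := Fi23T9.rels) (by decide +kernel)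
  Fi23T9.relIndex g _ hf.1 hf.2 fun _ hh => mem_genW g hh

theorem card9 {G : Type*} [Group G] (g : Nat → G) (h : Sat g RS) :
    CardLe (genW g Fi23T9.W0) 2 :=
  CardLe.of_relIndex (K1 := genW g Fi23T9.subs) (m := 1) (n := 2) (cardLe_bot_genW g) (card_rel9 g h)

theorem card_rel8 {G : Type*} [Group G] (g : Nat → G) (h : Sat g RS) :
    (genW g Fi23T8.subs).relIndex (genW g Fi23T8.W0) ≠ 0 ∧ (genW g Fi23T8.subs).relIndex (genW g Fi23T8.W0) ≤ 3 :=
  have hf := h.follows (invs := Fi23T8.invs) (rels := Fi23T8.rels) (by decide +kernel)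
  Fi23T8.relIndex g _ hf.1 hf.2 fun _ hh => mem_genW g hh

theorem card8 {G : Type*} [Group G] (g : Nat → G) (h : Sat g RS) :
    CardLe (genW g Fi23T8.W0) 6 :=
  CardLe.of_relIndex (K1 := genW g Fi23T8.subs) (m := 2) (n := 3) (card9 g h) (card_rel8 g h)

theorem card_rel7 {G : Type*} [Group G] (g : Nat → G) (h : Sat g RS) :
    (genW g Fi23T7.subs).relIndex (genW g Fi23T7.W0) ≠ 0 ∧ (genW g Fi23T7.subs).relIndex (genW g Fi23T7.W0) ≤ 4 :=
  have hf := h.follows (invs := Fi23T7.invs) (rels := Fi23T7.rels) (by decide +kernel)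
  Fi23T7.relIndex g _ hf.1 hf.2 fun _ hh => mem_genW g hh

theorem card7 {G : Type*} [Group G] (g : Nat → G) (h : Sat g RS) :
    CardLe (genW g Fi23T7.W0) 24 :=
  CardLe.of_relIndex (K1 := genW g Fi23T7.subs) (m := 6) (n := 4) (card8 g h) (card_rel7 g h)

theorem card_rel6 {G : Type*} [Group G] (g : Nat → G) (h : Sat g RS) :
    (genW g Fi23T6.subs).relIndex (genW g Fi23T6.W0) ≠ 0 ∧ (genW g Fi23T6.subs).relIndex (genW g Fi23T6.W0) ≤ 5 :=
  have hf := h.follows (invs := Fi23T6.invs) (rels := Fi23T6.rels) (by decide +kernel)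
  Fi23T6.relIndex g _ hf.1 hf.2 fun _ hh => mem_genW g hh

theorem card6 {G : Type*} [Group G] (g : Nat → G) (h : Sat g RS) :
    CardLe (genW g Fi23T6.W0) 120 :=
  CardLe.of_relIndex (K1 := genW g Fi23T6.subs) (m := 24) (n := 5) (card7 g h) (card_rel6 g h)

theorem card_rel5 {G : Type*} [Group G] (g : Nat → G) (h : Sat g RS) :
    (genW g Fi23T5.subs).relIndex (genW g Fi23T5.W0) ≠ 0 ∧ (genW g Fi23T5.subs).relIndex (genW g Fi23T5.W0) ≤ 16 :=
  have hf := h.follows (invs := Fi23T5.invs) (rels := Fi23T5.rels) (by decide +kernel)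
  Fi23T5.relIndex g _ hf.1 hf.2 fun _ hh => mem_genW g hh

theorem card5 {G : Type*} [Group G] (g : Nat → G) (h : Sat g RS) :
    CardLe (genW g Fi23T5.W0) 1920 :=
  CardLe.of_relIndex (K1 := genW g Fi23T5.subs) (m := 120) (n := 16) (card6 g h) (card_rel5 g h)

theorem card_rel4 {G : Type*} [Group G] (g : Nat → G) (h : Sat g RS) :
    (genW g Fi23T4.subs).relIndex (genW g Fi23T4.W0) ≠ 0 ∧ (genW g Fi23T4.subs).relIndex (genW g Fi23T4.W0) ≤ 27 :=
  have hf := h.follows (invs := Fi23T4.invs) (rels := Fi23T4.rels) (by decide +kernel)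
  Fi23T4.relIndex g _ hf.1 hf.2 fun _ hh => mem_genW g hh

theorem card4 {G : Type*} [Group G] (g : Nat → G) (h : Sat g RS) :
    CardLe (genW g Fi23T4.W0) 51840 :=
  CardLe.of_relIndex (K1 := genW g Fi23T4.subs) (m := 1920) (n := 27) (card5 g h) (card_rel4 g h)

theorem card_rel3 {G : Type*} [Group G] (g : Nat → G) (h : Sat g RS) :
    (genW g Fi23T3.subs).relIndex (genW g Fi23T3.W0) ≠ 0 ∧ (genW g Fi23T3.subs).relIndex (genW g Fi23T3.W0) ≤ 56 :=
  have hf := h.follows (invs := Fi23T3.invs) (rels := Fi23T3.rels) (by decide +kernel)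
  Fi23T3.relIndex g _ hf.1 hf.2 fun _ hh => mem_genW g hh

theorem card3 {G : Type*} [Group G] (g : Nat → G) (h : Sat g RS) :
    CardLe (genW g Fi23T3.W0) 2903040 :=
  CardLe.of_relIndex (K1 := genW g Fi23T3.subs) (m := 51840) (n := 56) (card4 g h) (card_rel3 g h)

theorem card_rel2 {G : Type*} [Group G] (g : Nat → G) (h : Sat g RS) :
    (genW g Fi23T2.subs).relIndex (genW g Fi23T2.W0) ≠ 0 ∧ (genW g Fi23T2.subs).relIndex (genW g Fi23T2.W0) ≤ 3159 :=
  have hf := h.follows (invs := Fi23T2.invs) (rels := Fi23T2.rels) (by decide +kernel)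
  Fi23T2.relIndex g _ hf.1 hf.2 fun _ hh => mem_genW g hh

theorem card2 {G : Type*} [Group G] (g : Nat → G) (h : Sat g RS) :
    CardLe (genW g Fi23T2.W0) 9170703360 :=
  CardLe.of_relIndex (K1 := genW g Fi23T2.subs) (m := 2903040) (n := 3159) (card3 g h) (card_rel2 g h)

theorem card_rel1 {G : Type*} [Group G] (g : Nat → G) (h : Sat g RS) :
    (genW g Fi23T1.subs).relIndex (genW g Fi23T1.W0) ≠ 0 ∧ (genW g Fi23T1.subs).relIndex (genW g Fi23T1.W0) ≤ 14080 :=
  have hf := h.follows (invs := Fi23T1.invs) (rels := Fi23T1.rels) (by decide +kernel)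
  Fi23T1.relIndex g _ hf.1 hf.2 fun _ hh => mem_genW g hh

theorem card1 {G : Type*} [Group G] (g : Nat → G) (h : Sat g RS) :
    CardLe (genW g Fi23T1.W0) 129123503308800 :=
  CardLe.of_relIndex (K1 := genW g Fi23T1.subs) (m := 9170703360) (n := 14080) (card2 g h) (card_rel1 g h)

theorem card_rel0 {G : Type*} [Group G] (g : Nat → G) (h : Sat g RS) :
    (genW g Fi23T0.subs).relIndex (genW g Fi23T0.W0) ≠ 0 ∧ (genW g Fi23T0.subs).relIndex (genW g Fi23T0.W0) ≤ 31671 :=
  have hf := h.follows (invs := Fi23T0.invs) (rels := Fi23T0.rels) (by decide +kernel)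
  Fi23T0.relIndex g _ hf.1 hf.2 fun _ hh => mem_genW g hh

theorem card0 {G : Type*} [Group G] (g : Nat → G) (h : Sat g RS) :
    CardLe (genW g Fi23T0.W0) 4089470473293004800 :=
  CardLe.of_relIndex (K1 := genW g Fi23T0.subs) (m := 129123503308800) (n := 31671) (card1 g h) (card_rel0 g h)

def gens : List Cfsg.Spor.Fi23.Gen := [.a, .b, .c, .d, .e, .f, .g, .j, .h, .i]
theorem hall : ∀ u, u ∈ gens := by intro u; cases u <;> decide
abbrev rels : Set (FreeGroup Cfsg.Spor.Fi23.Gen) :=
  Cfsg.Spor.coxRelators Cfsg.Spor.Fi23.edges ∪ {r | r ∈ Cfsg.Spor.Fi23.extra}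
def g : Nat → Cfsg.Spor.Fi23 := pg rels gens
def invs0 : List Nat := [0,1,2,3,4,5,6,7,8,9]
theorem sat : Sat g RS := ((cox_sat hall _ _).follows (invs := invs0) (by decide +kernel)).2
theorem satC {H : Type*} [Group H] {h : Nat → H} (hs : Sat h RS) :
    Sat h (coxW gens Cfsg.Spor.Fi23.edges Cfsg.Spor.Fi23.extra) :=
  (hs.follows (invs := invs0) (by decide +kernel)).2
theorem gen : genW g (gensW 10) = ⊤ := pg_gen rels hall
noncomputable def φ : Cfsg.Spor.Fi23 →* Equiv.Perm (Fin 31671) := coxLift (satC sat0)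
theorem φ_g (k : Nat) : φ (g k) = finGen 31671 l k :=
  coxLift_pg (satC sat0) (by decide) (fun k hk => finGen_of_le _ l _ hk) k
noncomputable scoped instance act : MulAction Cfsg.Spor.Fi23 (Fin 31671) := MulAction.compHom _ φ
theorem R : Rep (finPt 31671) 31671 g l := R0.comp φ φ_g
theorem cardLe : CardLe (⊤ : Subgroup Cfsg.Spor.Fi23) 4089470473293004800 := gen ▸ card0 g sat
instance fin : Finite Cfsg.Spor.Fi23 := cardLe.top_finite
theorem card : Nat.card Cfsg.Spor.Fi23 = 4089470473293004800 := by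
  refine le_antisymm cardLe.top_le ?_
  have := R.chain_card_ge (finPt_inj _) (d := 15) (by norm_num) ⊤ hC (fun _ _ => trivial)
  rw [Subgroup.card_top] at this
  exact le_trans (by decide +kernel) this
theorem base : IsBase (⊤ : Subgroup Cfsg.Spor.Fi23) (finPt 31671) bs := fun _ hx hf =>
  R.chain_base (finPt_inj _) (d := 15) (by norm_num) ⊤ hC (fun _ _ => trivial)
    (by rw [Subgroup.card_top, card]; decide +kernel) hx hf
theorem index_stab : (stabilizer Cfsg.Spor.Fi23 (finPt 31671 0)).index = 31671 :=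
  R.index_stab (finPt_inj _) gen (by norm_num) cov
theorem card_stab : Nat.card (stabilizer Cfsg.Spor.Fi23 (finPt 31671 0)) = 129123503308800 := by
  have := (stabilizer Cfsg.Spor.Fi23 (finPt 31671 0)).index_mul_card
  rw [index_stab, card] at this
  exact Nat.eq_of_mul_eq_mul_left (by norm_num) (this.trans (by norm_num))
theorem W1_fix : ∀ w ∈ W1, wprod g w • finPt 31671 0 = finPt 31671 0 := fun w hw =>
  R.mapsTo_act (by norm_num) (lall_iff.1 hW1 w hw)
theorem coatom : IsCoatom (stabilizer Cfsg.Spor.Fi23 (finPt 31671 0)) :=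
  R.isCoatom gen (by norm_num) (C := P) W1_fix hPc hP
    (fun e => by have := index_stab; rw [e, Subgroup.index_top] at this; omega)
theorem core : (stabilizer Cfsg.Spor.Fi23 (finPt 31671 0)).normalCore = ⊥ :=
  base.normalCore fun b hb => by
    obtain ⟨x, _, e⟩ := R.covers_spec (K := ⊤) (fun _ _ => trivial) cov b (hbs b hb)
    exact ⟨x, e⟩
theorem K_eq : genW g W1 = stabilizer Cfsg.Spor.Fi23 (finPt 31671 0) := by
  have h := card_rel0 g sat
  have e : genW g Fi23T0.W0 = ⊤ := gen
  rw [e, Subgroup.relIndex_top_right] at h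
  exact eq_of_index_le (genW_le.2 W1_fix) h.1 (by rw [index_stab]; exact h.2)
theorem orbS0 : orbit (genW g W1) (wprod g [14] • finPt 31671 0) = finPt 31671 '' (bset 31671 S0 : Set Nat) := by
  rw [R.mapsTo_act (w := [14]) (b := 1) (by norm_num) (band_iff.1 hP0).1, R.orbit_eq (by norm_num) hS0]
theorem orb0 : (orbit (genW g W1) (wprod g [14] • finPt 31671 0)).ncard = 28160 := by
  rw [orbS0, ncard_image_bset (finPt_inj _) (d := 15) (by norm_num), cS0]
theorem orbS1 : orbit (genW g W1) (wprod g [14,12,10,8,6,16,4,6,8,10,12,14] • finPt 31671 0) = finPt 31671 '' (bset 31671 S1 : Set Nat) := by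
  rw [R.mapsTo_act (w := [14,12,10,8,6,16,4,6,8,10,12,14]) (b := 52) (by norm_num) (band_iff.1 hP1).1, R.orbit_eq (by norm_num) hS1]
theorem orb1 : (orbit (genW g W1) (wprod g [14,12,10,8,6,16,4,6,8,10,12,14] • finPt 31671 0)).ncard = 3510 := by
  rw [orbS1, ncard_image_bset (finPt_inj _) (d := 15) (by norm_num), cS1]
def brs : List (Nat × Nat) := [(0, 1), (1, 2), (2, 3), (3, 4), (3, 8), (4, 5), (5, 6), (6, 7), (8, 9), (1, 0), (2, 1), (3, 2), (4, 3), (8, 3), (5, 4), (6, 5), (7, 6), (9, 8)]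
theorem inv (k : Nat) (hk : k ∈ invs0) : g k * g k = 1 :=
  (sat.follows (invs := invs0) (rels := []) (by decide +kernel)).1 k hk
theorem br (a b : Nat) (h : (a, b) ∈ brs) : (g a * g b) ^ 3 = 1 := by
  have := (sat.follows (invs := invs0) (rels := brs.map fun p => wpow [2 * p.1, 2 * p.2] 3)
    (by decide +kernel)).2 _ (List.mem_map_of_mem h)
  simpa [wprod_wpow, wprod_cons, letter_even] using this
theorem nc0 (N : Subgroup Cfsg.Spor.Fi23) (hN : N.Normal) (h0 : g 0 ∈ N) : N = ⊤ := by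
  have h1 := mem_of_braid hN (inv 0 (by decide)) (inv 1 (by decide)) (br 0 1 (by decide)) h0
  have h2 := mem_of_braid hN (inv 1 (by decide)) (inv 2 (by decide)) (br 1 2 (by decide)) h1
  have h3 := mem_of_braid hN (inv 2 (by decide)) (inv 3 (by decide)) (br 2 3 (by decide)) h2
  have h4 := mem_of_braid hN (inv 3 (by decide)) (inv 4 (by decide)) (br 3 4 (by decide)) h3
  have h8 := mem_of_braid hN (inv 3 (by decide)) (inv 8 (by decide)) (br 3 8 (by decide)) h3
  have h5 := mem_of_braid hN (inv 4 (by decide)) (inv 5 (by decide)) (br 4 5 (by decide)) h4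
  have h6 := mem_of_braid hN (inv 5 (by decide)) (inv 6 (by decide)) (br 5 6 (by decide)) h5
  have h7 := mem_of_braid hN (inv 6 (by decide)) (inv 7 (by decide)) (br 6 7 (by decide)) h6
  have h9 := mem_of_braid hN (inv 8 (by decide)) (inv 9 (by decide)) (br 8 9 (by decide)) h8
  refine eq_top_of_gens gen fun k hk => ?_
  interval_cases k <;> assumption
theorem perfect : commutator Cfsg.Spor.Fi23 = ⊤ := by
  have h0 : Abelianization.of (g 0) = Abelianization.of (g 0) := rfl
  have h1 := (braid_eq Abelianization.of (inv 0 (by decide)) (inv 1 (by decide)) (br 0 1 (by decide))).symm.trans h0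
  have h2 := (braid_eq Abelianization.of (inv 1 (by decide)) (inv 2 (by decide)) (br 1 2 (by decide))).symm.trans h1
  have h3 := (braid_eq Abelianization.of (inv 2 (by decide)) (inv 3 (by decide)) (br 2 3 (by decide))).symm.trans h2
  have h4 := (braid_eq Abelianization.of (inv 3 (by decide)) (inv 4 (by decide)) (br 3 4 (by decide))).symm.trans h3
  have h8 := (braid_eq Abelianization.of (inv 3 (by decide)) (inv 8 (by decide)) (br 3 8 (by decide))).symm.trans h3
  have h5 := (braid_eq Abelianization.of (inv 4 (by decide)) (inv 5 (by decide)) (br 4 5 (by decide))).symm.trans h4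
  have h6 := (braid_eq Abelianization.of (inv 5 (by decide)) (inv 6 (by decide)) (br 5 6 (by decide))).symm.trans h5
  have h7 := (braid_eq Abelianization.of (inv 6 (by decide)) (inv 7 (by decide)) (br 6 7 (by decide))).symm.trans h6
  have h9 := (braid_eq Abelianization.of (inv 8 (by decide)) (inv 9 (by decide)) (br 8 9 (by decide))).symm.trans h8
  refine perfect_of_odd gen (inv 0 (by decide)) (fun k hk => ?_) (w := [0,2,4,6,8,10,16,0,2,4,6,8,10,16,0,2,4,6,8,10,16,0,2,4,6,8,10,16,0,2,4,6,8,10,16,0,2,4,6,8,10,16,0,2,4,6,8,10,16,0,2,4,6,8,10,16,0,2,4,6,8,10,16]) (sat _ (by decide +kernel)) (by decide +kernel) (by decide +kernel)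
  interval_cases k <;> assumption
def zw : List Nat := [2,4,6,8,10,12,16,2,4,6,8,10,12,16,2,4,6,8,10,12,16,2,4,6,8,10,12,16,2,4,6,8,10,12,16,2,4,6,8,10,12,16,2,4,6,8,10,12,16,2,4,6,8,10,12,16,2,4,6,8,10,12,16]
def ew : List Nat := [14,12,10,8,6,4,2,0,16,6,4,8,6,10,8,12,10,14,12,16,6,4,8,6,10,8,16,6,4,2]
noncomputable def zc : List Nat := app ew (app [0] (rinv ew []))
noncomputable def z : Cfsg.Spor.Fi23 := wprod g zc
theorem z_eq : wprod g zw = z := base.eqP R hbs (by decide +kernel)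
theorem z_conj : z = wprod g ew * g 0 * (wprod g ew)⁻¹ := by
  unfold z zc
  rw [wprod_app, wprod_app, wprod_rinv, ← wprod_single g 0]
  simp [mul_assoc]
theorem z_nc (N : Subgroup Cfsg.Spor.Fi23) (hN : N.Normal) (h : z ∈ N) : N = ⊤ := by
  apply nc0 N hN
  have := hN.conj_mem _ h (wprod g ew)⁻¹
  rw [z_conj] at this
  simpa [mul_assoc] using this
theorem z_order : orderOf z = 2 := by
  rw [z_conj]
  refine ((MulAut.conj (wprod g ew)).orderOf_eq (g 0)).trans (orderOf_eq_two' (inv 0 (by decide)) ?_)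
  rw [← wprod_single g 0]
  exact R.ne_one (finPt_inj _) (a := 8) (b := 11) (by norm_num) (by decide +kernel) (by norm_num)
theorem z_sq : z * z = 1 := by rw [← pow_two, ← z_order, pow_orderOf_eq_one]
theorem zc0 : wprod g [0] * z = z * wprod g [0] := by
  unfold z; rw [← wprod_app, ← wprod_app]; exact base.eqP R hbs (by decide +kernel)
theorem zc1 : wprod g [2] * z = z * wprod g [2] := by
  unfold z; rw [← wprod_app, ← wprod_app]; exact base.eqP R hbs (by decide +kernel)
theorem zc2 : wprod g [4] * z = z * wprod g [4] := by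
  unfold z; rw [← wprod_app, ← wprod_app]; exact base.eqP R hbs (by decide +kernel)
theorem zc3 : wprod g [6] * z = z * wprod g [6] := by
  unfold z; rw [← wprod_app, ← wprod_app]; exact base.eqP R hbs (by decide +kernel)
theorem zc4 : wprod g [8] * z = z * wprod g [8] := by
  unfold z; rw [← wprod_app, ← wprod_app]; exact base.eqP R hbs (by decide +kernel)
theorem zc5 : wprod g [10] * z = z * wprod g [10] := by
  unfold z; rw [← wprod_app, ← wprod_app]; exact base.eqP R hbs (by decide +kernel)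
theorem zc6 : wprod g [12] * z = z * wprod g [12] := by
  unfold z; rw [← wprod_app, ← wprod_app]; exact base.eqP R hbs (by decide +kernel)
theorem zc7 : wprod g [16] * z = z * wprod g [16] := by
  unfold z; rw [← wprod_app, ← wprod_app]; exact base.eqP R hbs (by decide +kernel)
theorem zc8 : wprod g [18] * z = z * wprod g [18] := by
  unfold z; rw [← wprod_app, ← wprod_app]; exact base.eqP R hbs (by decide +kernel)
theorem z_comm : ∀ x ∈ stabilizer Cfsg.Spor.Fi23 (finPt 31671 0), x * z = z * x := by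
  rw [← K_eq]
  exact comm_of_gens (List.forall_mem_cons.2 ⟨zc0, List.forall_mem_cons.2 ⟨zc1, List.forall_mem_cons.2 ⟨zc2, List.forall_mem_cons.2 ⟨zc3, List.forall_mem_cons.2 ⟨zc4, List.forall_mem_cons.2 ⟨zc5, List.forall_mem_cons.2 ⟨zc6, List.forall_mem_cons.2 ⟨zc7, List.forall_mem_cons.2 ⟨zc8, List.forall_mem_nil _⟩⟩⟩⟩⟩⟩⟩⟩⟩)
theorem simple : IsSimpleGroup Cfsg.Spor.Fi23 := simple_of_coatom_central coatom core z_comm z_nc perfect
theorem t1 : (z * (wprod g P1.w * z * (wprod g P1.w)⁻¹)) ^ 2 = 1 := by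
  refine t2_of z_comm z_sq ?_
  have := R.maps (w := app P1.w (app zc (rinv P1.w []))) (a := 0) (b := 0) (by norm_num) (by decide +kernel)
  simpa only [wprod_app, wprod_rinv, z, wprod_nil, mul_one, mul_assoc] using this
theorem t0 : (z * (wprod g P0.w * z * (wprod g P0.w)⁻¹)) ^ 3 = 1 := by
  refine t3_of z_comm z_sq ?_
  have := R.maps (w := rinv (app zc P0.w) (app P0.w (app zc (rinv P0.w [])))) (a := 0) (b := 0) (by norm_num) (by decide +kernel)
  simpa only [wprod_app, wprod_rinv, z, wprod_nil, mul_one, mul_assoc] using this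
theorem three : Cfsg.IsThreeTranspositionClass (conjugatesOf z) :=
  R.threeTransp gen (by norm_num) W1_fix hPc hP z_order z_comm z_nc (List.forall_mem_cons.2 ⟨Or.inr t0, List.forall_mem_cons.2 ⟨Or.inl t1, List.forall_mem_nil _⟩⟩)
theorem cent : Subgroup.centralizer ({z} : Set Cfsg.Spor.Fi23) = stabilizer Cfsg.Spor.Fi23 (finPt 31671 0) :=
  haveI := simple
  centralizer_eq_of_perfect coatom z_comm z_nc (by rw [perfect]; exact top_ne_bot)

end CfsgH7.Fi23
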