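import Cfsg.Agent.H7.Fi23.Nets

set_option autoImplicit false
set_option maxRecDepth 100000

namespace CfsgH7.Fi23

open MulAction

theorem tr0 : trivJ l 31671 15 RS 0 = true := by decide +kernel
theorem tr1 : trivJ l 31671 15 RS 1 = true := by decide +kernel
theorem tr2 : trivJ l 31671 15 RS 2 = true := by decide +kernel
theorem tr3 : trivJ l 31671 15 RS 3 = true := by decide +kernel
theorem tr4 : trivJ l 31671 15 RS 4 = true := by decide +kernel
theorem tr5 : trivJ l 31671 15 RS 5 = true := by decide +kernel
theorem tr6 : trivJ l 31671 15 RS 6 = true := by decide +kernel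
theorem tr7 : trivJ l 31671 15 RS 7 = true := by decide +kernel
theorem tr8 : trivJ l 31671 15 RS 8 = true := by decide +kernel
theorem tr9 : trivJ l 31671 15 RS 9 = true := by decide +kernel
theorem tr10 : trivJ l 31671 15 RS 10 = true := by decide +kernel
theorem tr11 : trivJ l 31671 15 RS 11 = true := by decide +kernel
theorem tr12 : trivJ l 31671 15 RS 12 = true := by decide +kernel
theorem tr13 : trivJ l 31671 15 RS 13 = true := by decide +kernel
theorem tr14 : trivJ l 31671 15 RS 14 = true := by decide +kernel

theorem sat0 : Sat (finGen 31671 l) RS := finRep_sat R0 (m := 15) (by norm_num) (by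
  intro j hj
  interval_cases j
  · exact tr0
  · exact tr1
  · exact tr2
  · exact tr3
  · exact tr4
  · exact tr5
  · exact tr6
  · exact tr7
  · exact tr8
  · exact tr9
  · exact tr10
  · exact tr11
  · exact tr12
  · exact tr13
  · exact tr14)


end CfsgH7.Fi23
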